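import Mathlib
import Cfsg.Agent.H584.NC.PIBasic

/-!
# The linear case with a maximal subgroup of prime index: tools (S4386)

* `rho Φ : G →* Perm (points)`, `sig e : SL d F →* G`, `rho_sig`;
* `stab Φ D` : the setwise stabilizer of a set `D` of points;
* `main` : the contradiction from a set `D` of points;
* `exists_frame` : `SL d F` is transitive on frames if every element of `F` is a `d`-th power.
-/

set_option autoImplicit false
set_option linter.unusedSectionVars false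

namespace Cfsg.Agent.H859.PI

open Subgroup Cfsg.Agent.H584.NC
open scoped LinearAlgebra.Projectivization

universe u

variable {G : Type u} [Group G] {S M : Subgroup G} {r : ℕ} {F : Type} [Field F] {d : ℕ}

/-- the action on the points -/
def rho (Φ : (G ⧸ M) ≃ ℙ F (Fin d → F)) : G →* Equiv.Perm (ℙ F (Fin d → F)) :=
  (Equiv.permCongrHom Φ).toMonoidHom.comp (MulAction.toPermHom G (G ⧸ M))

theorem rho_apply (Φ : (G ⧸ M) ≃ ℙ F (Fin d → F)) (g : G) (p : ℙ F (Fin d → F)) :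
    rho Φ g p = Φ (g • Φ.symm p) := rfl

/-- the elements of `S` given by matrices -/
def sig (e : S ≃* Matrix.ProjectiveSpecialLinearGroup (Fin d) F) : Matrix.SpecialLinearGroup (Fin d) F →* G :=
  S.subtype.comp (e.symm.toMonoidHom.comp (QuotientGroup.mk' _))

theorem sig_mem (e : S ≃* Matrix.ProjectiveSpecialLinearGroup (Fin d) F) (A : Matrix.SpecialLinearGroup (Fin d) F) :
    sig e A ∈ S := (e.symm (QuotientGroup.mk A)).2

theorem exists_sig (e : S ≃* Matrix.ProjectiveSpecialLinearGroup (Fin d) F) {s : G} (hs : s ∈ S) :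
    ∃ A, sig e A = s := by
  obtain ⟨A, hA⟩ := QuotientGroup.mk_surjective (e ⟨s, hs⟩)
  refine ⟨A, ?_⟩
  change ((e.symm (QuotientGroup.mk A) : S) : G) = s
  rw [hA, e.symm_apply_apply]

variable [Fintype F]

theorem rho_sig {e : S ≃* Matrix.ProjectiveSpecialLinearGroup (Fin d) F} {Φ : (G ⧸ M) ≃ ℙ F (Fin d → F)}
    (h : Lin S M r F d e Φ) (A : Matrix.SpecialLinearGroup (Fin d) F) (p : ℙ F (Fin d → F)) :
    rho Φ (sig e A) p = A • p := by
  have h1 := h.equiv (e.symm (QuotientGroup.mk A)) (Φ.symm p)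
  rw [e.apply_symm_apply, Φ.apply_symm_apply] at h1
  exact h1

theorem rho_faithful {e : S ≃* Matrix.ProjectiveSpecialLinearGroup (Fin d) F} {Φ : (G ⧸ M) ≃ ℙ F (Fin d → F)}
    [Finite G] (h : Lin S M r F d e Φ) {g : G} (hg : ∀ p, rho Φ g p = p) : g = 1 := by
  have hf := h.pi.faithful h.pi.M_ne_top h.pi.sup
  apply hf.eq_of_smul_eq_smul (M := G) (α := G ⧸ M)
  intro a
  have h1 := hg (Φ a)
  rw [rho_apply, Φ.symm_apply_apply] at h1
  rw [Φ.injective h1, one_smul]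

/-- the setwise stabilizer -/
def stab (Φ : (G ⧸ M) ≃ ℙ F (Fin d → F)) (D : Set (ℙ F (Fin d → F))) : Subgroup G where
  carrier := {g | ∀ p, rho Φ g p ∈ D ↔ p ∈ D}
  one_mem' p := by rw [map_one]; rfl
  mul_mem' {a b} ha hb p := by
    rw [map_mul]
    exact (ha _).trans (hb p)
  inv_mem' {a} ha p := by
    have h1 := ha (rho Φ a⁻¹ p)
    rw [← Equiv.Perm.mul_apply, ← map_mul, mul_inv_cancel, map_one] at h1
    exact h1.symm

theorem mem_stab {Φ : (G ⧸ M) ≃ ℙ F (Fin d → F)} {D : Set (ℙ F (Fin d → F))} {g : G} :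
    g ∈ stab Φ D ↔ ∀ p, rho Φ g p ∈ D ↔ p ∈ D := Iff.rfl

theorem mem_stab_of {Φ : (G ⧸ M) ≃ ℙ F (Fin d → F)} {D : Set (ℙ F (Fin d → F))} {g : G}
    (h : ∀ p ∈ D, rho Φ g p ∈ D) : g ∈ stab Φ D := by
  intro p
  refine ⟨fun hp => ?_, h p⟩
  have hfin : D.Finite := Set.toFinite D
  have hinj : Set.InjOn (rho Φ g) D := (rho Φ g).injective.injOn
  have himg : (rho Φ g) '' D = D := by
    apply Set.eq_of_subset_of_ncard_le
    · rintro _ ⟨p, hp, rfl⟩
      exact h p hp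
    · rw [hinj.ncard_image]
    · exact hfin
  rw [← himg] at hp
  obtain ⟨p', hp', h1⟩ := hp
  rwa [← (rho Φ g).injective h1]

theorem sig_mem_stab {e : S ≃* Matrix.ProjectiveSpecialLinearGroup (Fin d) F} {Φ : (G ⧸ M) ≃ ℙ F (Fin d → F)}
    (h : Lin S M r F d e Φ) {D : Set (ℙ F (Fin d → F))} {A : Matrix.SpecialLinearGroup (Fin d) F}
    (hA : ∀ p ∈ D, A • p ∈ D) : sig e A ∈ stab Φ D := by
  apply mem_stab_of
  intro p hp
  rw [rho_sig h]
  exact hA p hp

/-- **The contradiction from a set of points.** -/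
theorem main [Finite G] {e : S ≃* Matrix.ProjectiveSpecialLinearGroup (Fin d) F} {Φ : (G ⧸ M) ≃ ℙ F (Fin d → F)}
    (h : Lin S M r F d e Φ) (hfix : FixSub S M r F d Φ) (D : Set (ℙ F (Fin d → F)))
    (hsup : ∀ g : G, ∃ A : Matrix.SpecialLinearGroup (Fin d) F, ∀ p ∈ D, rho Φ ((sig e A)⁻¹ * g) p ∈ D)
    (hne : ∃ p, p ∈ D) (hnt : ∃ p, p ∉ D)
    (x t : Matrix.SpecialLinearGroup (Fin d) F) (hx : x ^ 3 = 1) (hy : (x⁻¹ * t) ^ 3 = 1) (ht : t ^ 2 = 1)
    (htp : ∃ p : ℙ F (Fin d → F), t • p ≠ p) (hxD : ∀ p ∈ D, x • p ∈ D) (htD : ∀ p ∈ D, t • p ∈ D)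
    (hW : ∀ W : Submodule F (Fin d → F), W ≠ ⊥ →
      (∀ A : Matrix.SpecialLinearGroup (Fin d) F, (∀ p ∈ D, A • p ∈ D) → ∀ v ∈ W, A.1.mulVec v ∈ W) → W = ⊤) :
    False := by
  have hH1 : S ⊔ stab Φ D = ⊤ := by
    rw [eq_top_iff]
    intro g _
    obtain ⟨A, hA⟩ := hsup g
    have h3 : g = sig e A * ((sig e A)⁻¹ * g) := by group
    rw [h3]
    exact mul_mem_sup (sig_mem e A) (mem_stab_of hA)
  have hHne : stab Φ D ≠ ⊤ := by
    intro h0
    obtain ⟨p, hp⟩ := hne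
    obtain ⟨p', hp'⟩ := hnt
    have := h.pi.transitive_S
    obtain ⟨s, hs⟩ := MulAction.exists_smul_eq S (Φ.symm p) (Φ.symm p')
    have h1 : (s : G) ∈ stab Φ D := h0 ▸ mem_top _
    have h2 := (h1 p).2 hp
    rw [rho_apply] at h2
    have h3 : (s : G) • Φ.symm p = Φ.symm p' := hs
    rw [h3, Φ.apply_symm_apply] at h2
    exact hp' h2
  have hnc : ¬ NC (stab Φ D) := by
    intro hnc
    have hx' := sig_mem_stab h hxD
    have ht' := sig_mem_stab h htD
    have ho : ∀ (a : stab Φ D), a ^ 3 = 1 → ¬ 2 ∣ orderOf a := by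
      intro a ha h2
      have := h2.trans (orderOf_dvd_of_pow_eq_one ha)
      omega
    have h1 := hnc.closed (ho ⟨_, hx'⟩ (Subtype.ext (by
      change (sig e x) ^ 3 = 1
      rw [← map_pow, hx, map_one]))) (ho ((⟨_, hx'⟩ : stab Φ D)⁻¹ * ⟨_, ht'⟩) (Subtype.ext (by
      change ((sig e x)⁻¹ * sig e t) ^ 3 = 1
      rw [← map_inv, ← map_mul, ← map_pow, hy, map_one])))
    rw [mul_inv_cancel_left] at h1
    apply h1
    have h2 : (⟨_, ht'⟩ : stab Φ D) ^ 2 = 1 := Subtype.ext (by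
      change (sig e t) ^ 2 = 1
      rw [← map_pow, ht, map_one])
    rw [orderOf_eq_prime h2]
    intro h3
    obtain ⟨p, hp⟩ := htp
    apply hp
    have h4 : sig e t = 1 := congrArg Subtype.val h3
    rw [← rho_sig h, h4, map_one]
    rfl
  obtain ⟨K, hK, hHK, h1, h2, -⟩ := h.pi.exists_over hnc hH1 hHne
  obtain ⟨W, hW0, hW1, hinv⟩ := hfix K h2 h1
  apply hW1
  apply hW W hW0
  intro A hA v hv
  by_cases hv0 : v = 0
  · rw [hv0, Matrix.mulVec_zero]
    exact W.zero_mem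
  have h3 := hinv (e.symm (QuotientGroup.mk A)) (hHK (sig_mem_stab h hA)) (Φ.symm (Projectivization.mk F v hv0))
  rw [Φ.apply_symm_apply, h.equiv, e.apply_symm_apply, Φ.apply_symm_apply, Projectivization.submodule_mk] at h3
  have h4 := h3 ((Submodule.span_singleton_le_iff_mem _ _).2 hv)
  have hne : A.1.mulVec v ≠ 0 := by
    intro h0
    have h5 : A • v = 0 := h0
    have h6 : A⁻¹ • (A • v) = 0 := by rw [h5, smul_zero]
    rw [inv_smul_smul] at h6
    exact hv0 h6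
  have h5 : (QuotientGroup.mk A : Matrix.ProjectiveSpecialLinearGroup (Fin d) F) • Projectivization.mk F v hv0 =
      Projectivization.mk F (A.1.mulVec v) hne := rfl
  have h6 : (Projectivization.mk F (A.1.mulVec v) hne).submodule ≤ W := h4
  rw [Projectivization.submodule_mk, Submodule.span_singleton_le_iff_mem] at h6
  exact h6

/-- transitivity on frames -/
theorem exists_frame (v : Fin d → (Fin d → F)) (hv : LinearIndependent F v) (w : Fin d → F) (c : Fin d → F)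
    (hw : w = ∑ i, c i • v i) (hc : ∀ i, c i ≠ 0) (hroot : ∀ a : F, a ≠ 0 → ∃ b : F, b ^ d = a) (hd : d ≠ 0) :
    ∃ A : Matrix.SpecialLinearGroup (Fin d) F, (∀ i, ∃ k : F, k ≠ 0 ∧ A.1.mulVec (Pi.single i 1) = k • v i) ∧
      ∃ k : F, k ≠ 0 ∧ A.1.mulVec 1 = k • w := by
  classical
  let A₀ : Matrix (Fin d) (Fin d) F := Matrix.of fun j i => c i * v i j
  have hcol : A₀.col = fun i => (Units.mk0 (c i) (hc i)) • v i := by
    funext i j
    rfl
  have hdet : A₀.det ≠ 0 := by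
    have h1 : LinearIndependent F A₀.col := by
      rw [hcol]
      exact hv.units_smul fun i => Units.mk0 (c i) (hc i)
    rw [Matrix.linearIndependent_cols_iff_isUnit, Matrix.isUnit_iff_isUnit_det] at h1
    exact h1.ne_zero
  obtain ⟨b, hb⟩ := hroot A₀.det⁻¹ (inv_ne_zero hdet)
  have hb0 : b ≠ 0 := by
    rintro rfl
    rw [zero_pow hd] at hb
    exact inv_ne_zero hdet hb.symm
  refine ⟨⟨b • A₀, by rw [Matrix.det_smul, Fintype.card_fin, hb, inv_mul_cancel₀ hdet]⟩, ?_, b, hb0, ?_⟩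
  · intro i
    refine ⟨b * c i, mul_ne_zero hb0 (hc i), ?_⟩
    change (b • A₀).mulVec (Pi.single i 1) = _
    rw [Matrix.smul_mulVec, Matrix.mulVec_single_one, hcol, mul_smul]
    rfl
  · change (b • A₀).mulVec 1 = _
    rw [Matrix.smul_mulVec, hw]
    congr 1
    funext j
    rw [Matrix.mulVec, Finset.sum_apply]
    simp [dotProduct, A₀]

/-- the coordinate points -/
def E (F : Type) [Field F] (d : ℕ) (i : Fin d) : ℙ F (Fin d → F) :=
  Projectivization.mk F (Pi.single i 1) (Pi.single_ne_zero_iff.2 one_ne_zero)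

omit [Fintype F] in
theorem ones_ne_zero [NeZero d] : (1 : Fin d → F) ≠ 0 := by
  intro h
  exact one_ne_zero (congrFun h 0)

/-- the unit point -/
def U (F : Type) [Field F] (d : ℕ) [NeZero d] : ℙ F (Fin d → F) := Projectivization.mk F 1 ones_ne_zero

omit [Fintype F] in
theorem mk_smul_eq {v : Fin d → F} (hv : v ≠ 0) {k : F} (h : k • v ≠ 0) :
    Projectivization.mk F (k • v) h = Projectivization.mk F v hv := by
  rw [Projectivization.mk_eq_mk_iff']
  exact ⟨k, rfl⟩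

/-- `G = S · (stabilizer of the frame)` -/
theorem exists_fix [NeZero d] {e : S ≃* Matrix.ProjectiveSpecialLinearGroup (Fin d) F}
    {Φ : (G ⧸ M) ≃ ℙ F (Fin d → F)} (h : Lin S M r F d e Φ) (hroot : ∀ a : F, a ≠ 0 → ∃ b : F, b ^ d = a) (g : G)
    (hli : LinearIndependent F fun i => (rho Φ g (E F d i)).rep) (c : Fin d → F)
    (hw : (rho Φ g (U F d)).rep = ∑ i, c i • (rho Φ g (E F d i)).rep) (hc : ∀ i, c i ≠ 0) :
    ∃ A : Matrix.SpecialLinearGroup (Fin d) F, (∀ i, rho Φ ((sig e A)⁻¹ * g) (E F d i) = E F d i) ∧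
      rho Φ ((sig e A)⁻¹ * g) (U F d) = U F d := by
  obtain ⟨A, h1, h2⟩ := exists_frame _ hli _ c hw hc hroot (NeZero.ne d)
  have key : ∀ (v : Fin d → F) (hv : v ≠ 0) (p : ℙ F (Fin d → F)), (∃ k : F, k ≠ 0 ∧ A.1.mulVec v = k • p.rep) →
      p = rho Φ g (Projectivization.mk F v hv) →
      rho Φ ((sig e A)⁻¹ * g) (Projectivization.mk F v hv) = Projectivization.mk F v hv := by
    rintro v hv p ⟨k, hk, hk2⟩ hp
    rw [map_mul, map_inv, Equiv.Perm.mul_apply, Equiv.Perm.inv_eq_iff_eq, rho_sig h, ← hp]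
    have hne : A.1.mulVec v ≠ 0 := by
      rw [hk2]
      exact smul_ne_zero hk p.rep_nonzero
    have h5 : A • Projectivization.mk F v hv = Projectivization.mk F (A.1.mulVec v) hne := rfl
    rw [h5]
    conv_lhs => rw [← p.mk_rep]
    rw [Projectivization.mk_eq_mk_iff']
    refine ⟨k⁻¹, ?_⟩
    rw [hk2, smul_smul, inv_mul_cancel₀ hk, one_smul]
  exact ⟨A, fun i => key _ _ _ (h1 i) rfl, key _ _ _ h2 rfl⟩

/-- variant of `main` -/
theorem main' [Finite G] {e : S ≃* Matrix.ProjectiveSpecialLinearGroup (Fin d) F} {Φ : (G ⧸ M) ≃ ℙ F (Fin d → F)}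
    (h : Lin S M r F d e Φ) (hfix : FixSub S M r F d Φ) (D : Set (ℙ F (Fin d → F)))
    (hsup : ∀ g : G, ∃ A : Matrix.SpecialLinearGroup (Fin d) F, ∀ p ∈ D, rho Φ ((sig e A)⁻¹ * g) p ∈ D)
    (hne : ∃ p, p ∈ D) (hnt : ∃ p, p ∉ D)
    (x y t : Matrix.SpecialLinearGroup (Fin d) F) (hx : x ^ 3 = 1) (hy : y ^ 3 = 1) (ht : t ^ 2 = 1)
    (hxy : x * y = t)
    (htp : ∃ p : ℙ F (Fin d → F), t • p ≠ p) (hxD : ∀ p ∈ D, x • p ∈ D) (htD : ∀ p ∈ D, t • p ∈ D)
    (hW : ∀ W : Submodule F (Fin d → F), W ≠ ⊥ →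
      (∀ A : Matrix.SpecialLinearGroup (Fin d) F, (∀ p ∈ D, A • p ∈ D) → ∀ v ∈ W, A.1.mulVec v ∈ W) → W = ⊤) :
    False :=
  main h hfix D hsup hne hnt x t hx (by rw [← hxy, inv_mul_cancel_left, hy]) ht htp hxD htD hW

omit [Fintype F] in
theorem exists_coeff [NeZero d] {v : Fin d → (Fin d → F)} (hv : LinearIndependent F v) (w : Fin d → F) :
    ∃ c : Fin d → F, w = ∑ i, c i • v i := by
  have : Nonempty (Fin d) := ⟨0⟩
  let b := basisOfLinearIndependentOfCardEqFinrank hv (by simp)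
  refine ⟨fun i => b.repr w i, ?_⟩
  have h1 := b.sum_repr w
  conv_lhs => rw [← h1]
  refine Finset.sum_congr rfl fun i _ => ?_
  rw [coe_basisOfLinearIndependentOfCardEqFinrank]

end Cfsg.Agent.H859.PI
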