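import Mathlib
import Cfsg.Agent.H859.PI.Tools

/-!
# The linear case, `d = 3` (S4386)

`lin_three` : if `G` has a maximal subgroup of prime index `r = q ^ 2 + q + 1` acting on the projective plane then
`q = 2`.
-/

set_option autoImplicit false
set_option linter.unusedSectionVars false

namespace Cfsg.Agent.H859.PI

open Subgroup Cfsg.Agent.H584.NC
open scoped LinearAlgebra.Projectivization

universe u

theorem three_arith {q r : ℕ} (hq : 2 ≤ q) (h : q ^ 3 - 1 = r * (q - 1)) : r = q ^ 2 + q + 1 := by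
  obtain ⟨m, rfl⟩ : ∃ m, q = m + 2 := ⟨q - 2, by omega⟩
  have h1 : (m + 2) ^ 3 - 1 = ((m + 2) ^ 2 + (m + 2) + 1) * (m + 1) := by
    have : (m + 2) ^ 3 = ((m + 2) ^ 2 + (m + 2) + 1) * (m + 1) + 1 := by ring
    omega
  have h2 : m + 2 - 1 = m + 1 := by omega
  rw [h1, h2] at h
  exact (Nat.eq_of_mul_eq_mul_right (Nat.succ_pos m) h).symm

namespace Three

variable {F : Type} [Field F]

/-- the hyperplane `v i = 0` -/
def hyp (F : Type) [Field F] (i : Fin 3) : Submodule F (Fin 3 → F) := LinearMap.ker (LinearMap.proj i)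

theorem mem_hyp {i : Fin 3} {v : Fin 3 → F} : v ∈ hyp F i ↔ v i = 0 := Iff.rfl

theorem E_le_hyp {i j : Fin 3} (hij : j ≠ i) : (E F 3 j).submodule ≤ hyp F i := by
  rw [E, Projectivization.submodule_mk, Submodule.span_singleton_le_iff_mem, mem_hyp, Pi.single_eq_of_ne hij.symm]

theorem not_le {i j k : Fin 3} (hj : j ≠ i) (hk : k ≠ i) {v : Fin 3 → F} (hv : v ≠ 0) (hvi : v i ≠ 0) :
    ¬ (Projectivization.mk F v hv).submodule ≤ (E F 3 j).submodule ⊔ (E F 3 k).submodule := by
  intro h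
  have h1 := h.trans (sup_le (E_le_hyp hj) (E_le_hyp hk))
  rw [Projectivization.submodule_mk, Submodule.span_singleton_le_iff_mem, mem_hyp] at h1
  exact hvi h1

theorem mem_pair {p q : ℙ F (Fin 3 → F)} {v : Fin 3 → F} :
    v ∈ p.submodule ⊔ q.submodule ↔ ∃ a b : F, v = a • p.rep + b • q.rep := by
  rw [p.submodule_eq, q.submodule_eq, Submodule.mem_sup]
  constructor
  · rintro ⟨x, hx, y, hy, rfl⟩
    obtain ⟨a, rfl⟩ := Submodule.mem_span_singleton.1 hx
    obtain ⟨b, rfl⟩ := Submodule.mem_span_singleton.1 hy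
    exact ⟨a, b, rfl⟩
  · rintro ⟨a, b, rfl⟩
    exact ⟨_, Submodule.smul_mem _ _ (Submodule.mem_span_singleton_self _), _,
      Submodule.smul_mem _ _ (Submodule.mem_span_singleton_self _), rfl⟩

theorem le_pair {p q s : ℙ F (Fin 3 → F)} :
    s.submodule ≤ p.submodule ⊔ q.submodule ↔ ∃ a b : F, s.rep = a • p.rep + b • q.rep := by
  rw [s.submodule_eq, Submodule.span_singleton_le_iff_mem, mem_pair]

end Three

open Three

section

variable {G : Type u} [Group G] [Finite G] {S M : Subgroup G} {r : ℕ} {F : Type} [Field F] [Fintype F]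

theorem col {Φ : (G ⧸ M) ≃ ℙ F (Fin 3 → F)} (hcol : ColInv M F 3 Φ) (g : G) {p a b : ℙ F (Fin 3 → F)}
    (h : p.submodule ≤ a.submodule ⊔ b.submodule) :
    (rho Φ g p).submodule ≤ (rho Φ g a).submodule ⊔ (rho Φ g b).submodule := by
  have h1 := hcol g (Φ.symm a) (Φ.symm b) (Φ.symm p)
  rw [Φ.apply_symm_apply, Φ.apply_symm_apply, Φ.apply_symm_apply] at h1
  exact h1 h

theorem col' {Φ : (G ⧸ M) ≃ ℙ F (Fin 3 → F)} (hcol : ColInv M F 3 Φ) (g : G) {p a b : ℙ F (Fin 3 → F)}
    (h : (rho Φ g p).submodule ≤ (rho Φ g a).submodule ⊔ (rho Φ g b).submodule) :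
    p.submodule ≤ a.submodule ⊔ b.submodule := by
  have h1 := col hcol g⁻¹ h
  have h2 : ∀ q, rho Φ g⁻¹ (rho Φ g q) = q := by
    intro q
    rw [map_inv]
    exact (rho Φ g).symm_apply_apply q
  rw [h2, h2, h2] at h1
  exact h1

/-- `G = S · (pointwise stabilizer of the frame)` -/
theorem exists_fix_three {e : S ≃* Matrix.ProjectiveSpecialLinearGroup (Fin 3) F} {Φ : (G ⧸ M) ≃ ℙ F (Fin 3 → F)}
    (h : Lin S M r F 3 e Φ) (hcol : ColInv M F 3 Φ) (hroot : ∀ a : F, a ≠ 0 → ∃ b : F, b ^ 3 = a) (g : G) :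
    ∃ A : Matrix.SpecialLinearGroup (Fin 3) F, (∀ i, rho Φ ((sig e A)⁻¹ * g) (E F 3 i) = E F 3 i) ∧
      rho Φ ((sig e A)⁻¹ * g) (U F 3) = U F 3 := by
  have hinj := (rho Φ g).injective
  have hEE : ∀ i j : Fin 3, i ≠ j → E F 3 i ≠ E F 3 j := by
    intro i j hij h1
    rw [E, E, Projectivization.mk_eq_mk_iff'] at h1
    obtain ⟨a, ha⟩ := h1
    have := congrFun ha i
    rw [Pi.single_eq_same, Pi.smul_apply, Pi.single_eq_of_ne hij, smul_zero] at this
    exact zero_ne_one this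
  have hfun : (fun i => (rho Φ g (E F 3 i)).rep) =
      Fin.cons (rho Φ g (E F 3 0)).rep ![(rho Φ g (E F 3 1)).rep, (rho Φ g (E F 3 2)).rep] := by
    funext i
    fin_cases i <;> rfl
  have hli : LinearIndependent F fun i => (rho Φ g (E F 3 i)).rep := by
    rw [hfun, linearIndependent_finCons, Projectivization.linearIndependent_pair_iff_ne]
    refine ⟨fun h1 => hEE 1 2 (by decide) (hinj h1), ?_⟩
    intro h1
    rw [Matrix.range_cons, Matrix.range_cons, Matrix.range_empty, Set.union_empty, Submodule.span_union,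
      ← Projectivization.submodule_eq, ← Projectivization.submodule_eq, mem_pair, ← le_pair] at h1
    exact not_le (i := 0) (by decide) (by decide) (Pi.single_ne_zero_iff.2 one_ne_zero) (by simp) (col' hcol g h1)
  obtain ⟨c, hc⟩ := exists_coeff hli (rho Φ g (U F 3)).rep
  have hc2 := hc
  rw [Fin.sum_univ_three] at hc2
  have hU : ∀ i j k : Fin 3, j ≠ i → k ≠ i → ∀ a b : F,
      (rho Φ g (U F 3)).rep ≠ a • (rho Φ g (E F 3 j)).rep + b • (rho Φ g (E F 3 k)).rep := by
    intro i j k hj hk a b h1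
    exact not_le hj hk ones_ne_zero one_ne_zero (col' hcol g (le_pair.2 ⟨a, b, h1⟩))
  have hc0 : ∀ i, c i ≠ 0 := by
    intro i h0
    fin_cases i
    · simp only [Fin.zero_eta, Fin.isValue] at h0
      rw [h0, zero_smul, zero_add] at hc2
      exact hU 0 1 2 (by decide) (by decide) _ _ hc2
    · simp only [Fin.mk_one, Fin.isValue] at h0
      rw [h0, zero_smul, add_zero] at hc2
      exact hU 1 0 2 (by decide) (by decide) _ _ hc2
    · simp only [Fin.reduceFinMk, Fin.isValue] at h0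
      rw [h0, zero_smul, add_zero] at hc2
      exact hU 2 0 1 (by decide) (by decide) _ _ hc2
  exact exists_fix h hroot g hli c hc hc0

end

/-! ### odd `q` : the triangle -/

namespace Three

variable {F : Type} [Field F]

/-- the image of a coordinate point -/
theorem smul_E {A : Matrix.SpecialLinearGroup (Fin 3) F} {i j : Fin 3} {k : F}
    (h : A.1.mulVec (Pi.single i 1) = k • Pi.single j 1) : A • E F 3 i = E F 3 j := by
  have h3 : A.1.mulVec (Pi.single i 1) ≠ 0 := (smul_ne_zero_iff_ne A).2 (Pi.single_ne_zero_iff.2 one_ne_zero)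
  change Projectivization.mk F (A.1.mulVec (Pi.single i 1)) h3 = _
  rw [E, Projectivization.mk_eq_mk_iff']
  exact ⟨k, h.symm⟩

/-- the cyclic permutation -/
def xo : Matrix.SpecialLinearGroup (Fin 3) F := ⟨!![0, 0, 1; 1, 0, 0; 0, 1, 0], by simp [Matrix.det_fin_three]⟩

/-- the involution -/
def tod : Matrix.SpecialLinearGroup (Fin 3) F := ⟨!![-1, 0, 0; 0, -1, 0; 0, 0, 1], by simp [Matrix.det_fin_three]⟩

/-- the second element of order three -/
def yo : Matrix.SpecialLinearGroup (Fin 3) F := ⟨!![0, -1, 0; 0, 0, 1; -1, 0, 0], by simp [Matrix.det_fin_three]⟩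

theorem xo_pow : (xo : Matrix.SpecialLinearGroup (Fin 3) F) ^ 3 = 1 := by
  apply Subtype.ext
  rw [Matrix.SpecialLinearGroup.coe_pow]
  change (!![0, 0, 1; 1, 0, 0; 0, 1, 0] : Matrix (Fin 3) (Fin 3) F) ^ 3 = 1
  ext i j
  fin_cases i <;> fin_cases j <;> simp [pow_succ, Matrix.mul_apply, Fin.sum_univ_three]

theorem yo_pow : (yo : Matrix.SpecialLinearGroup (Fin 3) F) ^ 3 = 1 := by
  apply Subtype.ext
  rw [Matrix.SpecialLinearGroup.coe_pow]
  change (!![0, -1, 0; 0, 0, 1; -1, 0, 0] : Matrix (Fin 3) (Fin 3) F) ^ 3 = 1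
  ext i j
  fin_cases i <;> fin_cases j <;> simp [pow_succ, Matrix.mul_apply, Fin.sum_univ_three]

theorem tod_pow : (tod : Matrix.SpecialLinearGroup (Fin 3) F) ^ 2 = 1 := by
  apply Subtype.ext
  rw [Matrix.SpecialLinearGroup.coe_pow]
  change (!![-1, 0, 0; 0, -1, 0; 0, 0, 1] : Matrix (Fin 3) (Fin 3) F) ^ 2 = 1
  ext i j
  fin_cases i <;> fin_cases j <;> simp [pow_succ, Matrix.mul_apply, Fin.sum_univ_three]

theorem xo_mul_yo : (xo : Matrix.SpecialLinearGroup (Fin 3) F) * yo = tod := by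
  apply Subtype.ext
  rw [Matrix.SpecialLinearGroup.coe_mul]
  change (!![0, 0, 1; 1, 0, 0; 0, 1, 0] : Matrix (Fin 3) (Fin 3) F) * !![0, -1, 0; 0, 0, 1; -1, 0, 0] =
    !![-1, 0, 0; 0, -1, 0; 0, 0, 1]
  ext i j
  fin_cases i <;> fin_cases j <;> simp [Matrix.mul_apply, Fin.sum_univ_three]

theorem xo_mulVec (v : Fin 3 → F) : (xo : Matrix.SpecialLinearGroup (Fin 3) F).1.mulVec v = ![v 2, v 0, v 1] := by
  funext i
  fin_cases i <;> simp [xo, Matrix.mulVec, dotProduct, Fin.sum_univ_three]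

theorem tod_mulVec (v : Fin 3 → F) : (tod : Matrix.SpecialLinearGroup (Fin 3) F).1.mulVec v = ![- v 0, - v 1, v 2] := by
  funext i
  fin_cases i <;> simp [tod, Matrix.mulVec, dotProduct, Fin.sum_univ_three]

theorem xo_range : ∀ p ∈ Set.range (E F 3), (xo : Matrix.SpecialLinearGroup (Fin 3) F) • p ∈ Set.range (E F 3) := by
  rintro _ ⟨i, rfl⟩
  fin_cases i
  · refine ⟨1, (smul_E (k := 1) ?_).symm⟩
    rw [xo_mulVec]
    funext i
    fin_cases i <;> simp
  · refine ⟨2, (smul_E (k := 1) ?_).symm⟩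
    rw [xo_mulVec]
    funext i
    fin_cases i <;> simp
  · refine ⟨0, (smul_E (k := 1) ?_).symm⟩
    rw [xo_mulVec]
    funext i
    fin_cases i <;> simp

theorem tod_range : ∀ p ∈ Set.range (E F 3), (tod : Matrix.SpecialLinearGroup (Fin 3) F) • p ∈ Set.range (E F 3) := by
  rintro _ ⟨i, rfl⟩
  fin_cases i
  · refine ⟨0, (smul_E (k := -1) ?_).symm⟩
    rw [tod_mulVec]
    funext i
    fin_cases i <;> simp
  · refine ⟨1, (smul_E (k := -1) ?_).symm⟩
    rw [tod_mulVec]
    funext i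
    fin_cases i <;> simp
  · refine ⟨2, (smul_E (k := 1) ?_).symm⟩
    rw [tod_mulVec]
    funext i
    fin_cases i <;> simp

theorem span_top {W : Submodule F (Fin 3 → F)} (h : ∀ i, Pi.single i 1 ∈ W) : W = ⊤ := by
  rw [eq_top_iff]
  intro v _
  have h1 : v = v 0 • Pi.single 0 1 + v 1 • Pi.single 1 1 + v 2 • Pi.single 2 1 := by
    funext i
    fin_cases i <;> simp
  rw [h1]
  exact W.add_mem (W.add_mem (W.smul_mem _ (h 0)) (W.smul_mem _ (h 1))) (W.smul_mem _ (h 2))

theorem odd_irred (h2 : (2 : F) ≠ 0) {W : Submodule F (Fin 3 → F)} (hW : W ≠ ⊥)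
    (hx : ∀ v ∈ W, (xo : Matrix.SpecialLinearGroup (Fin 3) F).1.mulVec v ∈ W)
    (ht : ∀ v ∈ W, (tod : Matrix.SpecialLinearGroup (Fin 3) F).1.mulVec v ∈ W) : W = ⊤ := by
  have key : ∀ v ∈ W, v 2 ≠ 0 → W = ⊤ := by
    intro v hv hv2
    have h3 := W.smul_mem (2 * v 2)⁻¹ (W.add_mem (ht v hv) hv)
    rw [tod_mulVec] at h3
    have e2 : Pi.single 2 1 ∈ W := by
      convert h3 using 1
      funext i
      fin_cases i
      · simp [Matrix.vecHead]
      · simp [Matrix.vecHead, Matrix.vecTail]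
      · simp only [Fin.reduceFinMk, Fin.isValue, Pi.single_eq_same, Pi.smul_apply, Pi.add_apply, Matrix.cons_val,
          smul_eq_mul]
        rw [← two_mul, inv_mul_cancel₀ (mul_ne_zero h2 hv2)]
    have e0 : Pi.single 0 1 ∈ W := by
      have := hx _ e2
      rw [xo_mulVec] at this
      convert this using 1
      funext i
      fin_cases i <;> simp
    have e1 : Pi.single 1 1 ∈ W := by
      have := hx _ e0
      rw [xo_mulVec] at this
      convert this using 1
      funext i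
      fin_cases i <;> simp
    apply span_top
    intro i
    fin_cases i
    · exact e0
    · exact e1
    · exact e2
  obtain ⟨v, hv, hv0⟩ := W.ne_bot_iff.1 hW
  by_cases a2 : v 2 = 0
  · by_cases a1 : v 1 = 0
    · have a0 : v 0 ≠ 0 := by
        intro a0
        apply hv0
        funext i
        fin_cases i
        · exact a0
        · exact a1
        · exact a2
      have h3 := hx _ (hx _ hv)
      rw [xo_mulVec, xo_mulVec] at h3
      exact key _ h3 (by simpa using a0)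
    · have h3 := hx _ hv
      rw [xo_mulVec] at h3
      exact key _ h3 (by simpa using a1)
  · exact key v hv a2

end Three

section

variable {G : Type u} [Group G] [Finite G] {S M : Subgroup G} {r : ℕ} {F : Type} [Field F] [Fintype F]

theorem odd_case {e : S ≃* Matrix.ProjectiveSpecialLinearGroup (Fin 3) F} {Φ : (G ⧸ M) ≃ ℙ F (Fin 3 → F)}
    (h : Lin S M r F 3 e Φ) (hfix : FixSub S M r F 3 Φ) (hcol : ColInv M F 3 Φ)
    (hroot : ∀ a : F, a ≠ 0 → ∃ b : F, b ^ 3 = a) (h2 : (2 : F) ≠ 0) : False := by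
  refine main' h hfix (Set.range (E F 3)) ?_ ⟨_, 0, rfl⟩ ?_ xo yo tod xo_pow yo_pow tod_pow xo_mul_yo ?_ ?_ ?_ ?_
  · intro g
    obtain ⟨A, hA, -⟩ := exists_fix_three h hcol hroot g
    refine ⟨A, ?_⟩
    rintro _ ⟨i, rfl⟩
    rw [hA i]
    exact ⟨i, rfl⟩
  · refine ⟨U F 3, ?_⟩
    rintro ⟨i, hi⟩
    rw [E, U, Projectivization.mk_eq_mk_iff'] at hi
    obtain ⟨a, ha⟩ := hi
    fin_cases i
    · have h0 := congrFun ha 0
      have h1 := congrFun ha 1
      simp at h0 h1
      rw [h0] at h1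
      exact one_ne_zero h1
    · have h0 := congrFun ha 0
      have h1 := congrFun ha 1
      simp at h0 h1
      rw [h0] at h1
      exact zero_ne_one h1
    · have h0 := congrFun ha 0
      have h1 := congrFun ha 2
      simp at h0 h1
      rw [h0] at h1
      exact zero_ne_one h1
  · refine ⟨U F 3, ?_⟩
    intro h0
    have h3 : (tod : Matrix.SpecialLinearGroup (Fin 3) F).1.mulVec 1 ≠ 0 :=
      (smul_ne_zero_iff_ne (tod : Matrix.SpecialLinearGroup (Fin 3) F)).2 ones_ne_zero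
    change Projectivization.mk F ((tod : Matrix.SpecialLinearGroup (Fin 3) F).1.mulVec 1) h3 = _ at h0
    rw [U, Projectivization.mk_eq_mk_iff'] at h0
    obtain ⟨a, ha⟩ := h0
    rw [tod_mulVec] at ha
    have h4 := congrFun ha 0
    have h5 := congrFun ha 2
    simp at h4 h5
    rw [h5] at h4
    apply h2
    linear_combination h4
  · exact xo_range
  · exact tod_range
  · intro W hW hinv
    exact odd_irred h2 hW (hinv _ xo_range) (hinv _ tod_range)

end

/-! ### even `q` : the Fano subplane -/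

namespace Three

variable {F : Type} [Field F]

/-- the points of the Fano subplane -/
def D7 (F : Type) [Field F] : Set (ℙ F (Fin 3 → F)) :=
  {p | ∃ (v : Fin 3 → F) (hv : v ≠ 0), (∀ i, v i ^ 2 = v i) ∧ p = Projectivization.mk F v hv}

theorem add_sq_two [CharP F 2] (a b : F) : (a + b) ^ 2 = a ^ 2 + b ^ 2 := CharTwo.add_sq a b

theorem smul_mem_D7 [CharP F 2] (A : Matrix.SpecialLinearGroup (Fin 3) F) (hA : ∀ i j, A.1 i j ^ 2 = A.1 i j)
    (p : ℙ F (Fin 3 → F)) (hp : p ∈ D7 F) : A • p ∈ D7 F := by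
  obtain ⟨v, hv, h1, rfl⟩ := hp
  have hne : A.1.mulVec v ≠ 0 := (smul_ne_zero_iff_ne A).2 hv
  refine ⟨A.1.mulVec v, hne, ?_, rfl⟩
  intro i
  simp only [Matrix.mulVec, dotProduct, Fin.sum_univ_three]
  rw [add_sq_two, add_sq_two, mul_pow, mul_pow, mul_pow, hA, hA, hA, h1, h1, h1]

/-- an element of order three -/
def xe [CharP F 2] : Matrix.SpecialLinearGroup (Fin 3) F :=
  ⟨!![1, 0, 0; 0, 0, 1; 0, 1, 1], by simp [Matrix.det_fin_three, CharTwo.neg_eq]⟩

/-- the involution -/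
def te [CharP F 2] : Matrix.SpecialLinearGroup (Fin 3) F :=
  ⟨!![1, 1, 0; 0, 1, 0; 0, 0, 1], by simp [Matrix.det_fin_three]⟩

/-- the second element of order three -/
def ye [CharP F 2] : Matrix.SpecialLinearGroup (Fin 3) F :=
  ⟨!![1, 1, 0; 0, 1, 1; 0, 1, 0], by simp [Matrix.det_fin_three, CharTwo.neg_eq]⟩

theorem xe_pow [CharP F 2] : (xe : Matrix.SpecialLinearGroup (Fin 3) F) ^ 3 = 1 := by
  apply Subtype.ext
  rw [Matrix.SpecialLinearGroup.coe_pow]
  change (!![1, 0, 0; 0, 0, 1; 0, 1, 1] : Matrix (Fin 3) (Fin 3) F) ^ 3 = 1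
  ext i j
  fin_cases i <;> fin_cases j <;> simp [pow_succ, Matrix.mul_apply, Fin.sum_univ_three, CharTwo.add_self_eq_zero]

theorem ye_pow [CharP F 2] : (ye : Matrix.SpecialLinearGroup (Fin 3) F) ^ 3 = 1 := by
  apply Subtype.ext
  rw [Matrix.SpecialLinearGroup.coe_pow]
  change (!![1, 1, 0; 0, 1, 1; 0, 1, 0] : Matrix (Fin 3) (Fin 3) F) ^ 3 = 1
  ext i j
  fin_cases i <;> fin_cases j <;> simp [pow_succ, Matrix.mul_apply, Fin.sum_univ_three, CharTwo.add_self_eq_zero]

theorem te_pow [CharP F 2] : (te : Matrix.SpecialLinearGroup (Fin 3) F) ^ 2 = 1 := by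
  apply Subtype.ext
  rw [Matrix.SpecialLinearGroup.coe_pow]
  change (!![1, 1, 0; 0, 1, 0; 0, 0, 1] : Matrix (Fin 3) (Fin 3) F) ^ 2 = 1
  ext i j
  fin_cases i <;> fin_cases j <;> simp [pow_succ, Matrix.mul_apply, Fin.sum_univ_three, CharTwo.add_self_eq_zero]

theorem xe_mul_ye [CharP F 2] : (xe : Matrix.SpecialLinearGroup (Fin 3) F) * ye = te := by
  apply Subtype.ext
  rw [Matrix.SpecialLinearGroup.coe_mul]
  change (!![1, 0, 0; 0, 0, 1; 0, 1, 1] : Matrix (Fin 3) (Fin 3) F) * !![1, 1, 0; 0, 1, 1; 0, 1, 0] =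
    !![1, 1, 0; 0, 1, 0; 0, 0, 1]
  ext i j
  fin_cases i <;> fin_cases j <;> simp [Matrix.mul_apply, Fin.sum_univ_three, CharTwo.add_self_eq_zero]

/-- the elementary transvection -/
def el (i j : Fin 3) (hij : i ≠ j) : Matrix.SpecialLinearGroup (Fin 3) F :=
  ⟨Matrix.transvection i j 1, Matrix.det_transvection_of_ne i j hij 1⟩

theorem el_mulVec (i j : Fin 3) (hij : i ≠ j) (v : Fin 3 → F) : (el i j hij).1.mulVec v = v + Pi.single i (v j) := by
  change (Matrix.transvection i j (1 : F)).mulVec v = _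
  rw [Matrix.transvection, Matrix.add_mulVec, Matrix.one_mulVec]
  congr 1
  rw [Matrix.single_mulVec, one_mul]
  rfl

theorem el_entry (i j : Fin 3) (hij : i ≠ j) (a b : Fin 3) :
    (el i j hij : Matrix.SpecialLinearGroup (Fin 3) F).1 a b ^ 2 = (el i j hij : Matrix.SpecialLinearGroup (Fin 3) F).1 a b := by
  change (Matrix.transvection i j (1 : F)) a b ^ 2 = (Matrix.transvection i j (1 : F)) a b
  rw [Matrix.transvection, Matrix.add_apply, Matrix.one_apply, Matrix.single_apply]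
  split_ifs with h1 h2 h2
  · exact absurd (h2.1.trans (h1.trans h2.2.symm)) hij
  · simp
  · simp
  · simp

theorem even_irred {W : Submodule F (Fin 3 → F)} (hW : W ≠ ⊥)
    (hx : ∀ (i j : Fin 3) (hij : i ≠ j), ∀ v ∈ W, (el i j hij : Matrix.SpecialLinearGroup (Fin 3) F).1.mulVec v ∈ W) :
    W = ⊤ := by
  have step : ∀ i j : Fin 3, i ≠ j → ∀ v ∈ W, v j ≠ 0 → Pi.single i 1 ∈ W := by
    intro i j hij v hv hvj
    have h1 := W.sub_mem (hx i j hij v hv) hv
    rw [el_mulVec, add_sub_cancel_left] at h1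
    have h2 := W.smul_mem (v j)⁻¹ h1
    rwa [← Pi.single_smul, smul_eq_mul, inv_mul_cancel₀ hvj] at h2
  obtain ⟨v, hv, hv0⟩ := W.ne_bot_iff.1 hW
  obtain ⟨j, hj⟩ := Function.ne_iff.1 hv0
  have h1 : ∀ i, i ≠ j → Pi.single i 1 ∈ W := fun i hij => step i j hij v hv hj
  obtain ⟨i, hij⟩ : ∃ i : Fin 3, i ≠ j := exists_ne j
  have h2 : Pi.single j 1 ∈ W := step j i hij.symm _ (h1 i hij) (by simp)
  apply span_top
  intro k
  by_cases hk : k = j
  · rw [hk]; exact h2
  · exact h1 k hk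

end Three

section

variable {G : Type u} [Group G] [Finite G] {S M : Subgroup G} {r : ℕ} {F : Type} [Field F] [Fintype F]

/-- the diagonal points -/
theorem fix_diag [CharP F 2] {Φ : (G ⧸ M) ≃ ℙ F (Fin 3 → F)} (hcol : ColInv M F 3 Φ) {k : G}
    (hE : ∀ i, rho Φ k (E F 3 i) = E F 3 i) (hU : rho Φ k (U F 3) = U F 3) (l i j : Fin 3) (hil : i ≠ l) (hjl : j ≠ l)
    {v : Fin 3 → F} (hv : v ≠ 0) (h1 : v = Pi.single i 1 + Pi.single j 1) (h2 : v = 1 + Pi.single l 1) :
    rho Φ k (Projectivization.mk F v hv) = Projectivization.mk F v hv := by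
  have hmem : ∀ (p q : ℙ F (Fin 3 → F)) (a b : Fin 3 → F) (ha : a ≠ 0) (hb : b ≠ 0),
      p = Projectivization.mk F a ha → q = Projectivization.mk F b hb → v = a + b →
      (Projectivization.mk F v hv).submodule ≤ p.submodule ⊔ q.submodule := by
    rintro p q a b ha hb rfl rfl h
    rw [Projectivization.submodule_mk, Submodule.span_singleton_le_iff_mem, h]
    exact Submodule.add_mem_sup (by rw [Projectivization.submodule_mk]; exact Submodule.mem_span_singleton_self _)
      (by rw [Projectivization.submodule_mk]; exact Submodule.mem_span_singleton_self _)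
  have e1 := col hcol k (hmem (E F 3 i) (E F 3 j) _ _ _ _ rfl rfl h1)
  have e2 := col hcol k (hmem (U F 3) (E F 3 l) _ _ _ _ rfl rfl h2)
  rw [hE, hE] at e1
  rw [hE, hU] at e2
  set p := rho Φ k (Projectivization.mk F v hv) with hp
  have hl : p.rep l = 0 := by
    have e3 := e1.trans (sup_le (E_le_hyp hil) (E_le_hyp hjl))
    rw [p.submodule_eq, Submodule.span_singleton_le_iff_mem, mem_hyp] at e3
    exact e3
  rw [p.submodule_eq, Submodule.span_singleton_le_iff_mem, U, E, Projectivization.submodule_mk,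
    Projectivization.submodule_mk, Submodule.mem_sup] at e2
  obtain ⟨y, hy, z, hz, hyz⟩ := e2
  obtain ⟨a, rfl⟩ := Submodule.mem_span_singleton.1 hy
  obtain ⟨b, rfl⟩ := Submodule.mem_span_singleton.1 hz
  rw [← hyz] at hl
  simp at hl
  have hab : b = a := by
    have : b = -a := by linear_combination hl
    rw [this, CharTwo.neg_eq]
  rw [← p.mk_rep, Projectivization.mk_eq_mk_iff']
  refine ⟨a, ?_⟩
  rw [← hyz, hab, h2, smul_add]

theorem sup_even [CharP F 2] {e : S ≃* Matrix.ProjectiveSpecialLinearGroup (Fin 3) F} {Φ : (G ⧸ M) ≃ ℙ F (Fin 3 → F)}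
    (h : Lin S M r F 3 e Φ) (hcol : ColInv M F 3 Φ)
    (hroot : ∀ a : F, a ≠ 0 → ∃ b : F, b ^ 3 = a) (g : G) :
    ∃ A : Matrix.SpecialLinearGroup (Fin 3) F, ∀ p ∈ D7 F, rho Φ ((sig e A)⁻¹ * g) p ∈ D7 F := by
  obtain ⟨A, hE, hU⟩ := exists_fix_three h hcol hroot g
  refine ⟨A, ?_⟩
  rintro p ⟨v, hv, hv2, rfl⟩
  have hfix : rho Φ ((sig e A)⁻¹ * g) (Projectivization.mk F v hv) = Projectivization.mk F v hv := by
    have h01 : ∀ i, v i = 0 ∨ v i = 1 := by
      intro i
      have h1 : v i * (v i - 1) = 0 := by linear_combination hv2 i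
      rcases mul_eq_zero.1 h1 with h2 | h2
      · exact Or.inl h2
      · exact Or.inr (sub_eq_zero.1 h2)
    have heq : ∀ (w : Fin 3 → F) (hw : w ≠ 0), v = w →
        rho Φ ((sig e A)⁻¹ * g) (Projectivization.mk F w hw) = Projectivization.mk F w hw →
        rho Φ ((sig e A)⁻¹ * g) (Projectivization.mk F v hv) = Projectivization.mk F v hv := by
      rintro w hw rfl h3
      exact h3
    rcases h01 0 with a0 | a0 <;> rcases h01 1 with a1 | a1 <;> rcases h01 2 with a2 | a2
    · exfalso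
      apply hv
      funext i
      fin_cases i
      · exact a0
      · exact a1
      · exact a2
    · exact heq _ _ (by funext i; fin_cases i <;> simp [a0, a1, a2]) (hE 2)
    · exact heq _ _ (by funext i; fin_cases i <;> simp [a0, a1, a2]) (hE 1)
    · exact fix_diag hcol hE hU 0 1 2 (by decide) (by decide) hv
        (by funext i; fin_cases i <;> simp [a0, a1, a2])
        (by funext i; fin_cases i <;> simp [a0, a1, a2, CharTwo.add_self_eq_zero])
    · exact heq _ _ (by funext i; fin_cases i <;> simp [a0, a1, a2]) (hE 0)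
    · exact fix_diag hcol hE hU 1 0 2 (by decide) (by decide) hv
        (by funext i; fin_cases i <;> simp [a0, a1, a2])
        (by funext i; fin_cases i <;> simp [a0, a1, a2, CharTwo.add_self_eq_zero])
    · exact fix_diag hcol hE hU 2 0 1 (by decide) (by decide) hv
        (by funext i; fin_cases i <;> simp [a0, a1, a2])
        (by funext i; fin_cases i <;> simp [a0, a1, a2, CharTwo.add_self_eq_zero])
    · exact heq 1 ones_ne_zero (by funext i; fin_cases i <;> simp [a0, a1, a2]) hU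
  rw [hfix]
  exact ⟨v, hv, hv2, rfl⟩

theorem even_case [CharP F 2] {e : S ≃* Matrix.ProjectiveSpecialLinearGroup (Fin 3) F}
    {Φ : (G ⧸ M) ≃ ℙ F (Fin 3 → F)}
    (h : Lin S M r F 3 e Φ) (hfix : FixSub S M r F 3 Φ) (hcol : ColInv M F 3 Φ)
    (hroot : ∀ a : F, a ≠ 0 → ∃ b : F, b ^ 3 = a) (h2 : ∃ z : F, z ^ 2 ≠ z) : False := by
  refine main' h hfix (D7 F) (sup_even h hcol hroot) ⟨U F 3, 1, ones_ne_zero, fun i => by simp, rfl⟩ ?_
    xe ye te xe_pow ye_pow te_pow xe_mul_ye ?_ ?_ ?_ ?_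
  · obtain ⟨z, hz⟩ := h2
    have hne : (![z, 1, 0] : Fin 3 → F) ≠ 0 := fun h0 => one_ne_zero (congrFun h0 1)
    refine ⟨Projectivization.mk F ![z, 1, 0] hne, ?_⟩
    rintro ⟨v, hv, hv2, h1⟩
    rw [Projectivization.mk_eq_mk_iff'] at h1
    obtain ⟨a, ha⟩ := h1
    have h0 := congrFun ha 0
    have h1 := congrFun ha 1
    simp only [Pi.smul_apply, smul_eq_mul, Matrix.cons_val_zero, Matrix.cons_val_one] at h0 h1
    have hv1 : v 1 ≠ 0 := right_ne_zero_of_mul_eq_one h1
    have ha' : a = (v 1)⁻¹ := eq_inv_of_mul_eq_one_left h1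
    apply hz
    rw [← h0, ha', mul_pow, inv_pow, hv2, hv2]
  · refine ⟨E F 3 1, ?_⟩
    intro h0
    have h3 : (te : Matrix.SpecialLinearGroup (Fin 3) F).1.mulVec (Pi.single 1 1) ≠ 0 :=
      (smul_ne_zero_iff_ne (te : Matrix.SpecialLinearGroup (Fin 3) F)).2 (Pi.single_ne_zero_iff.2 one_ne_zero)
    change Projectivization.mk F ((te : Matrix.SpecialLinearGroup (Fin 3) F).1.mulVec (Pi.single 1 1)) h3 = _ at h0
    rw [E, Projectivization.mk_eq_mk_iff'] at h0
    obtain ⟨a, ha⟩ := h0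
    have h1 := congrFun ha 0
    simp [te, Matrix.mulVec, dotProduct, Fin.sum_univ_three] at h1
  · apply smul_mem_D7
    intro i j
    fin_cases i <;> fin_cases j <;> simp [xe]
  · apply smul_mem_D7
    intro i j
    fin_cases i <;> fin_cases j <;> simp [te]
  · intro W hW hinv
    exact even_irred hW fun i j hij => hinv _ (smul_mem_D7 _ (el_entry i j hij))

/-- **The case `d = 3`.** -/
theorem lin_three {e : S ≃* Matrix.ProjectiveSpecialLinearGroup (Fin 3) F} {Φ : (G ⧸ M) ≃ ℙ F (Fin 3 → F)}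
    (h : Lin S M r F 3 e Φ) (hfix : FixSub S M r F 3 Φ) (hcol : ColInv M F 3 Φ) : Fintype.card F = 2 := by
  classical
  by_contra hne
  have hq2 : 2 ≤ Fintype.card F := Fintype.one_lt_card
  have hr := three_arith hq2 h.card
  have hrp := h.pi.prime
  have hcop : Nat.Coprime (Nat.card Fˣ) 3 := by
    rw [Nat.coprime_comm, Nat.Prime.coprime_iff_not_dvd Nat.prime_three, Nat.card_units,
      Nat.card_eq_fintype_card]
    rintro ⟨m, hm⟩
    have h1 : Fintype.card F = 3 * m + 1 := by omega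
    have h2 : r = 3 * (3 * m ^ 2 + 3 * m + 1) := by rw [hr, h1]; ring
    have h3 : 3 ∣ r := ⟨_, h2⟩
    have h4 := (Nat.prime_dvd_prime_iff_eq Nat.prime_three hrp).1 h3
    have h5 : m = 0 := by nlinarith
    omega
  have hroot : ∀ a : F, a ≠ 0 → ∃ b : F, b ^ 3 = a := by
    intro a ha
    obtain ⟨u, hu⟩ := (powCoprime hcop).surjective (Units.mk0 a ha)
    refine ⟨u, ?_⟩
    have h1 : u ^ 3 = Units.mk0 a ha := hu
    rw [← Units.val_pow_eq_pow_val, h1, Units.val_mk0]
  by_cases h2 : (2 : F) = 0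
  · have : CharP F 2 := CharTwo.of_one_ne_zero_of_two_eq_zero one_ne_zero h2
    refine even_case h hfix hcol hroot ?_
    by_contra hcon
    push Not at hcon
    have h3 : ∀ z : F, z = 0 ∨ z = 1 := by
      intro z
      have h1 : z * (z - 1) = 0 := by linear_combination hcon z
      rcases mul_eq_zero.1 h1 with h2 | h2
      · exact Or.inl h2
      · exact Or.inr (sub_eq_zero.1 h2)
    have h4 : Fintype.card F ≤ 2 := by
      have h5 : (Finset.univ : Finset F) ⊆ {0, 1} := by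
        intro z _
        rcases h3 z with h | h <;> simp [h]
      have h6 := Finset.card_le_card h5
      rw [Finset.card_univ] at h6
      exact h6.trans Finset.card_le_two
    omega
  · exact odd_case h hfix hcol hroot h2

end

end Cfsg.Agent.H859.PI
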