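import Mathlib
import Cfsg.Agent.H859.PI.Tools

/-!
# The linear case, `d = 2` (S4386)

`lin_two` : if `G` has a maximal subgroup of prime index `r = q + 1` acting on the projective line then `r = 5`.
-/

set_option autoImplicit false
set_option linter.unusedSectionVars false

namespace Cfsg.Agent.H859.PI

open Subgroup Cfsg.Agent.H584.NC
open scoped LinearAlgebra.Projectivization

universe u

namespace Two

variable {F : Type} [Field F]

/-- the points of the projective line over the field with four elements -/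
def D4 (F : Type) [Field F] : Set (ℙ F (Fin 2 → F)) :=
  {p | ∃ (v : Fin 2 → F) (hv : v ≠ 0), (∀ i, v i ^ 4 = v i) ∧ p = Projectivization.mk F v hv}

theorem add_pow_four [CharP F 2] (a b : F) : (a + b) ^ 4 = a ^ 4 + b ^ 4 := by
  have := add_pow_char_pow a b 2 2
  norm_num at this
  exact this

theorem smul_mem_D4 [CharP F 2] (A : Matrix.SpecialLinearGroup (Fin 2) F) (hA : ∀ i j, A.1 i j ^ 4 = A.1 i j)
    (p : ℙ F (Fin 2 → F)) (hp : p ∈ D4 F) : A • p ∈ D4 F := by
  obtain ⟨v, hv, h1, rfl⟩ := hp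
  have hne : A.1.mulVec v ≠ 0 := (smul_ne_zero_iff_ne A).2 hv
  refine ⟨A.1.mulVec v, hne, ?_, rfl⟩
  intro i
  simp only [Matrix.mulVec, dotProduct, Fin.sum_univ_two]
  rw [add_pow_four, mul_pow, mul_pow, hA, hA, h1, h1]

/-- the diagonal matrix `diag(z², z)` with `z ^ 3 = 1` -/
def dia (z : F) (hz : z ^ 3 = 1) : Matrix.SpecialLinearGroup (Fin 2) F :=
  ⟨!![z ^ 2, 0; 0, z], by rw [Matrix.det_fin_two_of, mul_zero, sub_zero, ← hz]; ring⟩

theorem dia_pow (z : F) (hz : z ^ 3 = 1) : (dia z hz) ^ 3 = 1 := by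
  apply Subtype.ext
  rw [Matrix.SpecialLinearGroup.coe_pow]
  change (!![z ^ 2, 0; 0, z] : Matrix (Fin 2) (Fin 2) F) ^ 3 = 1
  ext i j
  fin_cases i <;> fin_cases j <;> simp [pow_succ, Matrix.mul_apply, Fin.sum_univ_two] <;>
    first
    | linear_combination hz
    | linear_combination (z ^ 3 + 1) * hz

/-- the involution -/
def tr [CharP F 2] : Matrix.SpecialLinearGroup (Fin 2) F := ⟨!![1, 1; 0, 1], by simp⟩

theorem tr_pow [CharP F 2] : (tr : Matrix.SpecialLinearGroup (Fin 2) F) ^ 2 = 1 := by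
  apply Subtype.ext
  rw [Matrix.SpecialLinearGroup.coe_pow]
  change (!![1, 1; 0, 1] : Matrix (Fin 2) (Fin 2) F) ^ 2 = 1
  ext i j
  fin_cases i <;> fin_cases j <;> simp [pow_succ, Matrix.mul_apply, Fin.sum_univ_two, CharTwo.add_self_eq_zero]

/-- the swap -/
def sw [CharP F 2] : Matrix.SpecialLinearGroup (Fin 2) F :=
  ⟨!![0, 1; 1, 0], by rw [Matrix.det_fin_two_of]; simp [CharTwo.neg_eq]⟩

/-- the second element of order three -/
def yy (z : F) (hz : z ^ 3 = 1) : Matrix.SpecialLinearGroup (Fin 2) F :=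
  ⟨!![z, z; 0, z ^ 2], by rw [Matrix.det_fin_two_of, mul_zero, sub_zero, ← hz]; ring⟩

theorem yy_pow [CharP F 2] (z : F) (hz : z ^ 3 = 1) (hz1 : z ≠ 1) : (yy z hz) ^ 3 = 1 := by
  have h1 : z ^ 2 + z + 1 = 0 := by
    have h2 : (z - 1) * (z ^ 2 + z + 1) = 0 := by linear_combination hz
    rcases mul_eq_zero.1 h2 with h3 | h3
    · exact absurd (sub_eq_zero.1 h3) hz1
    · exact h3
  apply Subtype.ext
  rw [Matrix.SpecialLinearGroup.coe_pow]
  change (!![z, z; 0, z ^ 2] : Matrix (Fin 2) (Fin 2) F) ^ 3 = 1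
  ext i j
  fin_cases i <;> fin_cases j <;> simp [pow_succ, Matrix.mul_apply, Fin.sum_univ_two]
  · linear_combination hz
  · linear_combination (z ^ 3) * h1
  · linear_combination (z ^ 3 + 1) * hz

theorem dia_mul_yy [CharP F 2] (z : F) (hz : z ^ 3 = 1) : dia z hz * yy z hz = tr := by
  apply Subtype.ext
  rw [Matrix.SpecialLinearGroup.coe_mul]
  change (!![z ^ 2, 0; 0, z] : Matrix (Fin 2) (Fin 2) F) * !![z, z; 0, z ^ 2] = !![1, 1; 0, 1]
  ext i j
  fin_cases i <;> fin_cases j <;> simp [Matrix.mul_apply, Fin.sum_univ_two] <;> linear_combination hz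

theorem E0_ne_E1 : E F 2 0 ≠ E F 2 1 := by
  intro h
  rw [E, E, Projectivization.mk_eq_mk_iff'] at h
  obtain ⟨a, ha⟩ := h
  have := congrFun ha 0
  simp at this

theorem E0_ne_U : E F 2 0 ≠ U F 2 := by
  intro h
  rw [E, U, Projectivization.mk_eq_mk_iff'] at h
  obtain ⟨a, ha⟩ := h
  have h0 := congrFun ha 0
  have h1 := congrFun ha 1
  simp at h0 h1
  rw [h1] at h0
  exact zero_ne_one h0

theorem E1_ne_U : E F 2 1 ≠ U F 2 := by
  intro h
  rw [E, U, Projectivization.mk_eq_mk_iff'] at h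
  obtain ⟨a, ha⟩ := h
  have h0 := congrFun ha 0
  have h1 := congrFun ha 1
  simp at h0 h1
  rw [h0] at h1
  exact zero_ne_one h1

end Two

open Two

/-- the arithmetic -/
theorem two_arith {q r : ℕ} (hq : 2 ≤ q) (h : q ^ 2 - 1 = r * (q - 1)) : r = q + 1 := by
  obtain ⟨m, rfl⟩ : ∃ m, q = m + 2 := ⟨q - 2, by omega⟩
  have h1 : (m + 2) ^ 2 - 1 = (m + 3) * (m + 1) := by
    have : (m + 2) ^ 2 = (m + 3) * (m + 1) + 1 := by ring
    omega
  have h2 : m + 2 - 1 = m + 1 := by omega
  rw [h1, h2] at h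
  have := Nat.eq_of_mul_eq_mul_right (Nat.succ_pos m) h
  omega

section

variable {G : Type u} [Group G] [Finite G] {S M : Subgroup G} {r : ℕ} {F : Type} [Field F] [Fintype F]

/-- the supplement: `G = S · (stabilizer of `D4`)` -/
theorem sup_two [CharP F 2] {e : S ≃* Matrix.ProjectiveSpecialLinearGroup (Fin 2) F} {Φ : (G ⧸ M) ≃ ℙ F (Fin 2 → F)}
    (h : Lin S M r F 2 e Φ) (g : G) :
    ∃ A : Matrix.SpecialLinearGroup (Fin 2) F, ∀ p ∈ D4 F, rho Φ ((sig e A)⁻¹ * g) p ∈ D4 F := by
  have hinj := (rho Φ g).injective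
  have hroot : ∀ a : F, a ≠ 0 → ∃ b : F, b ^ 2 = a := by
    intro a _
    obtain ⟨b, hb⟩ := FiniteField.isSquare_of_char_two (ringChar.eq F 2) a
    exact ⟨b, by rw [pow_two, hb]⟩
  have hfun : (fun i => (rho Φ g (E F 2 i)).rep) = ![(rho Φ g (E F 2 0)).rep, (rho Φ g (E F 2 1)).rep] := by
    funext i
    fin_cases i <;> rfl
  have hli : LinearIndependent F fun i => (rho Φ g (E F 2 i)).rep := by
    rw [hfun, Projectivization.linearIndependent_pair_iff_ne]
    exact fun h1 => E0_ne_E1 (hinj h1)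
  obtain ⟨c, hc⟩ := exists_coeff hli (rho Φ g (U F 2)).rep
  have hc2 := hc
  rw [Fin.sum_univ_two] at hc2
  have hnz : ∀ (p : ℙ F (Fin 2 → F)) (a : F), (rho Φ g (U F 2)).rep = a • p.rep → p = rho Φ g (U F 2) := by
    intro p a ha
    rw [← p.mk_rep, ← (rho Φ g (U F 2)).mk_rep, Projectivization.mk_eq_mk_iff']
    have ha0 : a ≠ 0 := by
      rintro rfl
      rw [zero_smul] at ha
      exact (rho Φ g (U F 2)).rep_nonzero ha
    exact ⟨a⁻¹, by rw [ha, smul_smul, inv_mul_cancel₀ ha0, one_smul]⟩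
  have hc0 : ∀ i, c i ≠ 0 := by
    intro i h0
    fin_cases i
    · simp only [Fin.zero_eta, Fin.isValue] at h0
      rw [h0, zero_smul, zero_add] at hc2
      exact E1_ne_U (hinj (hnz _ _ hc2))
    · simp only [Fin.mk_one, Fin.isValue] at h0
      rw [h0, zero_smul, add_zero] at hc2
      exact E0_ne_U (hinj (hnz _ _ hc2))
  obtain ⟨A, hE, hU⟩ := exists_fix h hroot g hli c hc hc0
  refine ⟨A, ?_⟩
  set k : G := (sig e A)⁻¹ * g with hk
  clear_value k
  rintro p ⟨v, hv, hv4, rfl⟩
  -- the coordinate points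
  by_cases h1 : v 1 = 0
  · have h2 : Projectivization.mk F v hv = E F 2 0 := by
      rw [E, Projectivization.mk_eq_mk_iff']
      refine ⟨v 0, ?_⟩
      funext i
      fin_cases i <;> simp [h1]
    rw [h2, hE]
    exact ⟨Pi.single 0 1, _, fun i => by fin_cases i <;> simp, rfl⟩
  by_cases h0 : v 0 = 0
  · have h2 : Projectivization.mk F v hv = E F 2 1 := by
      rw [E, Projectivization.mk_eq_mk_iff']
      refine ⟨v 1, ?_⟩
      funext i
      fin_cases i <;> simp [h0]
    rw [h2, hE]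
    exact ⟨Pi.single 1 1, _, fun i => by fin_cases i <;> simp, rfl⟩
  -- the other points
  set z : F := v 0 * (v 1)⁻¹ with hz
  have hz0 : z ≠ 0 := mul_ne_zero h0 (inv_ne_zero h1)
  have hz3 : z ^ 3 = 1 := by
    have h4 : z ^ 4 = z := by rw [hz, mul_pow, inv_pow, hv4, hv4]
    exact mul_right_cancel₀ hz0 (by linear_combination h4)
  have hp : Projectivization.mk F v hv = dia z hz3 • U F 2 := by
    have h2 : (dia z hz3).1.mulVec 1 = ![z ^ 2, z] := by
      change (!![z ^ 2, 0; 0, z] : Matrix (Fin 2) (Fin 2) F).mulVec 1 = _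
      funext i
      fin_cases i <;> simp [Matrix.mulVec, dotProduct]
    have h3 : (dia z hz3).1.mulVec 1 ≠ 0 := by
      rw [h2]
      intro h
      exact hz0 (congrFun h 1)
    change _ = Projectivization.mk F ((dia z hz3).1.mulVec 1) h3
    rw [Projectivization.mk_eq_mk_iff']
    refine ⟨v 1 * z⁻¹, ?_⟩
    rw [h2]
    funext i
    fin_cases i
    · simp only [Fin.zero_eta, Fin.isValue, Pi.smul_apply, Matrix.cons_val_zero, smul_eq_mul]
      rw [pow_two, mul_assoc, inv_mul_cancel_left₀ hz0, hz, mul_comm (v 0), mul_inv_cancel_left₀ h1]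
    · simp only [Fin.mk_one, Fin.isValue, Pi.smul_apply, Matrix.cons_val_one, Matrix.cons_val_fin_one, smul_eq_mul]
      rw [inv_mul_cancel_right₀ hz0]
  -- transport of `dia z`
  have hnorm := h.pi.normal
  obtain ⟨B, hB⟩ := exists_sig e (hnorm.conj_mem _ (sig_mem e (dia z hz3)) k)
  have hdE : ∀ i, dia z hz3 • E F 2 i = E F 2 i := by
    intro i
    have h3 : (dia z hz3).1.mulVec (Pi.single i 1) ≠ 0 :=
      (smul_ne_zero_iff_ne (dia z hz3)).2 (Pi.single_ne_zero_iff.2 one_ne_zero)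
    change Projectivization.mk F ((dia z hz3).1.mulVec (Pi.single i 1)) h3 = _
    rw [E, Projectivization.mk_eq_mk_iff']
    fin_cases i
    · refine ⟨z ^ 2, ?_⟩
      funext j
      fin_cases j <;> simp [dia, Matrix.mulVec, dotProduct]
    · refine ⟨z, ?_⟩
      funext j
      fin_cases j <;> simp [dia, Matrix.mulVec, dotProduct]
  have hBE : ∀ i, B • E F 2 i = E F 2 i := by
    intro i
    rw [← rho_sig h, hB, map_mul, map_mul, map_inv, Equiv.Perm.mul_apply, Equiv.Perm.mul_apply]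
    have h2 : (rho Φ k)⁻¹ (E F 2 i) = E F 2 i := by
      rw [Equiv.Perm.inv_eq_iff_eq]
      exact (hE i).symm
    rw [h2, rho_sig h, hdE, hE]
  have hB10 : B.1 1 0 = 0 := by
    have h2 := hBE 0
    have h3 : B.1.mulVec (Pi.single 0 1) ≠ 0 :=
      (smul_ne_zero_iff_ne B).2 (Pi.single_ne_zero_iff.2 one_ne_zero)
    change Projectivization.mk F (B.1.mulVec (Pi.single 0 1)) h3 = _ at h2
    rw [E, Projectivization.mk_eq_mk_iff'] at h2
    obtain ⟨a, ha⟩ := h2
    have h4 := congrFun ha 1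
    simpa [Matrix.mulVec, dotProduct] using h4.symm
  have hB01 : B.1 0 1 = 0 := by
    have h2 := hBE 1
    have h3 : B.1.mulVec (Pi.single 1 1) ≠ 0 :=
      (smul_ne_zero_iff_ne B).2 (Pi.single_ne_zero_iff.2 one_ne_zero)
    change Projectivization.mk F (B.1.mulVec (Pi.single 1 1)) h3 = _ at h2
    rw [E, Projectivization.mk_eq_mk_iff'] at h2
    obtain ⟨a, ha⟩ := h2
    have h4 := congrFun ha 0
    simpa [Matrix.mulVec, dotProduct] using h4.symm
  have hdet : B.1 0 0 * B.1 1 1 = 1 := by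
    have h2 := B.2
    rw [Matrix.det_fin_two, hB10, hB01] at h2
    linear_combination h2
  have hBeq : B.1 = !![B.1 0 0, 0; 0, B.1 1 1] := by
    ext i j
    fin_cases i <;> fin_cases j <;> simp [hB10, hB01]
  have hB3 : (B ^ 3) • U F 2 = U F 2 := by
    rw [← rho_sig h, map_pow, hB]
    have h2 : (k * sig e (dia z hz3) * k⁻¹) ^ 3 = 1 := by
      rw [conj_pow, ← map_pow, dia_pow, map_one, mul_one, mul_inv_cancel]
    rw [h2, map_one]
    rfl
  have hB3' : B.1 0 0 ^ 3 = B.1 1 1 ^ 3 := by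
    have h3 : (B ^ 3).1.mulVec 1 ≠ 0 := (smul_ne_zero_iff_ne (B ^ 3)).2 ones_ne_zero
    change Projectivization.mk F ((B ^ 3).1.mulVec 1) h3 = _ at hB3
    rw [U, Projectivization.mk_eq_mk_iff'] at hB3
    obtain ⟨a, ha⟩ := hB3
    have h4 : (B ^ 3).1 = !![B.1 0 0 ^ 3, 0; 0, B.1 1 1 ^ 3] := by
      rw [Matrix.SpecialLinearGroup.coe_pow, hBeq]
      ext i j
      fin_cases i <;> fin_cases j <;> simp [pow_succ, Matrix.mul_apply, Fin.sum_univ_two]
    rw [h4] at ha
    have h5 := congrFun ha 0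
    have h6 := congrFun ha 1
    simp [Matrix.mulVec, dotProduct] at h5 h6
    rw [← h5, ← h6]
  have hb0 : B.1 0 0 ≠ 0 := left_ne_zero_of_mul_eq_one hdet
  have hb1 : B.1 1 1 ≠ 0 := right_ne_zero_of_mul_eq_one hdet
  have hres : rho Φ k (dia z hz3 • U F 2) = B • U F 2 := by
    rw [← rho_sig h B, hB, map_mul, map_mul, map_inv, Equiv.Perm.mul_apply, Equiv.Perm.mul_apply]
    have h2 : (rho Φ k)⁻¹ (U F 2) = U F 2 := by
      rw [Equiv.Perm.inv_eq_iff_eq]
      exact hU.symm
    rw [h2, rho_sig h]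
  rw [hp, hres]
  have h3 : B.1.mulVec 1 ≠ 0 := (smul_ne_zero_iff_ne B).2 ones_ne_zero
  have hne : (![B.1 0 0 ^ 2, 1] : Fin 2 → F) ≠ 0 := by
    intro h
    exact one_ne_zero (congrFun h 1)
  refine ⟨![B.1 0 0 ^ 2, 1], hne, ?_, ?_⟩
  · have h6 : B.1 0 0 ^ 6 = 1 := by
      have : B.1 0 0 ^ 6 = (B.1 0 0 * B.1 1 1) ^ 3 := by rw [mul_pow, ← hB3']; ring
      rw [this, hdet, one_pow]
    intro i
    fin_cases i
    · simp only [Fin.zero_eta, Fin.isValue, Matrix.cons_val_zero]
      linear_combination B.1 0 0 ^ 2 * h6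
    · simp
  · change Projectivization.mk F (B.1.mulVec 1) h3 = _
    rw [Projectivization.mk_eq_mk_iff']
    refine ⟨B.1 1 1, ?_⟩
    rw [hBeq]
    funext i
    fin_cases i
    · simp [Matrix.mulVec, dotProduct]
      linear_combination B.1 0 0 * hdet
    · simp [Matrix.mulVec, dotProduct]

/-- **The case `d = 2`.** -/
theorem lin_two {e : S ≃* Matrix.ProjectiveSpecialLinearGroup (Fin 2) F} {Φ : (G ⧸ M) ≃ ℙ F (Fin 2 → F)}
    (h : Lin S M r F 2 e Φ) (hfix : FixSub S M r F 2 Φ) : r = 5 := by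
  classical
  by_contra hr5
  have hq2 : 2 ≤ Fintype.card F := Fintype.one_lt_card
  have hr := two_arith hq2 h.card
  have hrp := h.pi.prime
  set q := Fintype.card F with hq
  have hpp : IsPrimePow q := FiniteField.isPrimePow_card F
  have heven : q % 2 = 0 := by
    by_contra h1
    have h2 : Even r := by
      rw [hr, Nat.even_iff]
      omega
    have h3 := (Nat.Prime.even_iff hrp).1 h2
    omega
  have hchar : ringChar F = 2 := FiniteField.even_card_iff_char_two.2 heven
  have : CharP F 2 := hchar ▸ ringChar.charP F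
  have hqne2 : q ≠ 2 := by
    intro h1
    have h2 := h.pi.card_dvd h.pi.M_ne_top h.pi.sup
    rw [h.pi.index, hr, h1] at h2
    have h3 : Nat.card S ∣ 6 := (Subgroup.card_subgroup_dvd_card S).trans h2
    have h4 : Squarefree (Nat.card S) := Squarefree.squarefree_of_dvd h3 (by decide +kernel)
    have := IsZGroup.of_squarefree h4
    exact h.pi.nonsol inferInstance
  have hq3 : q % 3 = 1 := by
    have h1 : q % 3 ≠ 0 := by
      intro h0
      obtain ⟨p, k, hp, hk, hpk⟩ := hpp
      have hp' : p.Prime := hp.nat_prime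
      have h2 : 2 ∣ p ^ k := by rw [hpk]; omega
      have h3 : 3 ∣ p ^ k := by rw [hpk]; omega
      have h4 := (Nat.prime_dvd_prime_iff_eq Nat.prime_two hp').1 (Nat.prime_two.dvd_of_dvd_pow h2)
      have h5 := (Nat.prime_dvd_prime_iff_eq Nat.prime_three hp').1 (Nat.prime_three.dvd_of_dvd_pow h3)
      omega
    have h2 : q % 3 ≠ 2 := by
      intro h0
      have h3 : 3 ∣ r := by omega
      have h4 := (Nat.prime_dvd_prime_iff_eq Nat.prime_three hrp).1 h3
      omega
    omega
  -- the element of order three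
  obtain ⟨w, hw⟩ : ∃ w : Fˣ, orderOf w = 3 := by
    have := Fact.mk Nat.prime_three
    apply exists_prime_orderOf_dvd_card
    rw [Fintype.card_units]
    omega
  have hw3 : (w : F) ^ 3 = 1 := by
    have h1 : w ^ 3 = 1 := by rw [← hw, pow_orderOf_eq_one]
    rw [← Units.val_pow_eq_pow_val, h1, Units.val_one]
  have hw1 : (w : F) ≠ 1 := by
    intro h1
    have : w = 1 := Units.ext h1
    rw [this, orderOf_one] at hw
    omega
  -- an element outside the subfield
  obtain ⟨z, hz⟩ : ∃ z : F, z ^ 4 ≠ z := by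
    by_contra hcon
    push Not at hcon
    obtain ⟨u, hu⟩ := IsCyclic.exists_generator (α := Fˣ)
    have h1 : orderOf u = Fintype.card Fˣ := by
      rw [← Nat.card_eq_fintype_card]
      exact orderOf_eq_card_of_forall_mem_zpowers hu
    have h2 : u ^ 3 = 1 := by
      apply Units.ext
      rw [Units.val_pow_eq_pow_val, Units.val_one]
      exact mul_right_cancel₀ u.ne_zero (by linear_combination hcon u)
    have h3 := orderOf_dvd_of_pow_eq_one h2
    rw [h1, Fintype.card_units] at h3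
    have h4 := Nat.le_of_dvd (by norm_num) h3
    have h5 : q = 4 := by omega
    omega
  have hw4 : (w : F) ^ 4 = w := by linear_combination (w : F) * hw3
  refine main' h hfix (D4 F) (sup_two h) ⟨E F 2 0, Pi.single 0 1, _, fun i => by fin_cases i <;> simp, rfl⟩ ?_
    (dia w hw3) (yy w hw3) tr (dia_pow _ _) (yy_pow _ _ hw1) tr_pow (dia_mul_yy _ _) ?_ ?_ ?_ ?_
  · -- a point outside
    have hne : (![z, 1] : Fin 2 → F) ≠ 0 := fun h0 => one_ne_zero (congrFun h0 1)
    refine ⟨Projectivization.mk F ![z, 1] hne, ?_⟩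
    rintro ⟨v, hv, hv4, h1⟩
    rw [Projectivization.mk_eq_mk_iff'] at h1
    obtain ⟨a, ha⟩ := h1
    have h0 := congrFun ha 0
    have h1 := congrFun ha 1
    simp only [Pi.smul_apply, smul_eq_mul, Matrix.cons_val_zero, Matrix.cons_val_one, Matrix.cons_val_fin_one] at h0 h1
    have hv1 : v 1 ≠ 0 := right_ne_zero_of_mul_eq_one h1
    have ha' : a = (v 1)⁻¹ := eq_inv_of_mul_eq_one_left h1
    apply hz
    rw [← h0, ha', mul_pow, inv_pow, hv4, hv4]
  · -- the involution is not trivial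
    refine ⟨E F 2 1, ?_⟩
    intro h0
    have h3 : (tr : Matrix.SpecialLinearGroup (Fin 2) F).1.mulVec (Pi.single 1 1) ≠ 0 :=
      (smul_ne_zero_iff_ne (tr : Matrix.SpecialLinearGroup (Fin 2) F)).2 (Pi.single_ne_zero_iff.2 one_ne_zero)
    change Projectivization.mk F ((tr : Matrix.SpecialLinearGroup (Fin 2) F).1.mulVec (Pi.single 1 1)) h3 = _ at h0
    rw [E, Projectivization.mk_eq_mk_iff'] at h0
    obtain ⟨a, ha⟩ := h0
    have h1 := congrFun ha 0
    simp [tr, Matrix.mulVec, dotProduct] at h1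
  · apply smul_mem_D4
    intro i j
    fin_cases i <;> fin_cases j <;> simp [dia]
    · linear_combination ((w : F) ^ 4 + w) * hw4
    · exact hw4
  · apply smul_mem_D4
    intro i j
    fin_cases i <;> fin_cases j <;> simp [tr]
  · -- irreducibility
    intro W hW0 hinv
    have htr : ∀ v ∈ W, (tr : Matrix.SpecialLinearGroup (Fin 2) F).1.mulVec v ∈ W := hinv _ (by
      apply smul_mem_D4
      intro i j
      fin_cases i <;> fin_cases j <;> simp [tr])
    have hsw : ∀ v ∈ W, (sw : Matrix.SpecialLinearGroup (Fin 2) F).1.mulVec v ∈ W := hinv _ (by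
      apply smul_mem_D4
      intro i j
      fin_cases i <;> fin_cases j <;> simp [sw])
    have hsw' : ∀ v : Fin 2 → F, (sw : Matrix.SpecialLinearGroup (Fin 2) F).1.mulVec v = ![v 1, v 0] := by
      intro v
      funext i
      fin_cases i <;> simp [sw, Matrix.mulVec, dotProduct]
    have htr' : ∀ v : Fin 2 → F, (tr : Matrix.SpecialLinearGroup (Fin 2) F).1.mulVec v = ![v 0 + v 1, v 1] := by
      intro v
      funext i
      fin_cases i <;> simp [tr, Matrix.mulVec, dotProduct]
    have key : ![1, 0] ∈ W → W = ⊤ := by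
      intro h1
      have h2 := hsw _ h1
      rw [hsw'] at h2
      rw [eq_top_iff]
      intro v _
      have h3 : v = v 0 • ![1, 0] + v 1 • ![(![1, 0] : Fin 2 → F) 1, (![1, 0] : Fin 2 → F) 0] := by
        funext i
        fin_cases i <;> simp
      rw [h3]
      exact W.add_mem (W.smul_mem _ h1) (W.smul_mem _ h2)
    obtain ⟨v, hv, hv0⟩ := W.ne_bot_iff.1 hW0
    have h1 : ![v 1, 0] ∈ W := by
      have h2 := W.sub_mem (htr v hv) hv
      rw [htr'] at h2
      convert h2 using 1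
      funext i
      fin_cases i <;> simp
    have h1' : ![v 0, 0] ∈ W := by
      have h3 := hsw v hv
      have h2 := W.sub_mem (htr _ h3) h3
      rw [htr', hsw'] at h2
      convert h2 using 1
      funext i
      fin_cases i <;> simp
    have hsm : ∀ a : F, a ≠ 0 → ![a, 0] ∈ W → ![1, 0] ∈ W := by
      intro a ha h3
      have h4 := W.smul_mem a⁻¹ h3
      convert h4 using 1
      funext i
      fin_cases i <;> simp [ha]
    by_cases h2 : v 1 = 0
    · have h3 : v 0 ≠ 0 := by
        intro h4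
        apply hv0
        funext i
        fin_cases i
        · exact h4
        · exact h2
      exact key (hsm _ h3 h1')
    · exact key (hsm _ h2 h1)

end

end Cfsg.Agent.H859.PI
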